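import Cfsg.Agent.SL2Classes.Basic

/-!
# The possible centraliser indices in `PSL(2, q)`
-/

set_option autoImplicit false
set_option linter.unusedSectionVars false

namespace CfsgLib.SL2Classes

open Matrix CfsgLib.SL2Trace
open CfsgLib.SL2Tori (tr card_centralizer_split card_centralizer_nonsplit nonScalar_of_sq_ne_four
  card_normalizer)
open scoped MatrixGroups

variable {F : Type*} [Field F] [Fintype F]

theorem sq_sub_one (q : ℕ) : q ^ 2 - 1 = (q - 1) * (q + 1) := by
  rw [mul_comm, ← Nat.sq_sub_sq, one_pow]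

theorem idx_one {g : SL(2, F)} (h : proj g = 1) : idx g = 1 := by
  rw [idx, h, Subgroup.index_eq_one]
  exact eq_top_iff.mpr fun x _ => Subgroup.mem_centralizer_singleton_iff.2 (by simp)

theorem idx_unipotent_odd {g : SL(2, F)} (h2 : (2 : F) ≠ 0)
    (hg : SL2Trace.NonScalar (g : Matrix (Fin 2) (Fin 2) F)) (ht : tr g ^ 2 = 4) :
    2 * idx g = Fintype.card F ^ 2 - 1 := by
  classical
  have h4 : (4 : F) ≠ 0 := fun e => h2 (mul_self_eq_zero.1 (by linear_combination e))
  have hne : tr g ≠ 0 := fun e => h4 (by rw [← ht, e]; ring)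
  have hc := card_centralizer_unipotent hg (tr g / 2) (by field_simp; linear_combination ht)
    (by field_simp)
  rw [card_sq_roots_odd h2] at hc
  have h := idx_mul g
  rw [pre_eq_centralizer g (Or.inl hne), hc] at h
  refine Nat.eq_of_mul_eq_mul_left (Fintype.card_pos (α := F)) ?_
  linarith

theorem idx_unipotent_even {g : SL(2, F)} (h2 : (2 : F) = 0)
    (hg : SL2Trace.NonScalar (g : Matrix (Fin 2) (Fin 2) F)) (ht : tr g = 0) :
    idx g = Fintype.card F ^ 2 - 1 := by
  classical
  have hc := card_centralizer_unipotent hg 1 (one_pow 2) (by rw [ht, h2, zero_mul])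
  rw [card_sq_roots_even h2] at hc
  have h := idx_mul g
  rw [pre_eq_centralizer g (Or.inr h2), hc] at h
  refine Nat.eq_of_mul_eq_mul_left (Fintype.card_pos (α := F)) ?_
  linarith

theorem idx_split {g : SL(2, F)} (ht : tr g ^ 2 ≠ 4) (h : tr g ≠ 0 ∨ (2 : F) = 0) {l : F}
    (hl : l ^ 2 + tr g * l + 1 = 0) : idx g = Fintype.card F * (Fintype.card F + 1) := by
  have hi := idx_mul g
  rw [pre_eq_centralizer g h, card_centralizer_split ht hl, sq_sub_one] at hi
  have hpos : 0 < Fintype.card F - 1 := by have := Fintype.one_lt_card (α := F); omega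
  exact Nat.eq_of_mul_eq_mul_right hpos (hi.trans (by ring))

theorem idx_nonsplit {g : SL(2, F)} (ht : tr g ^ 2 ≠ 4) (h : tr g ≠ 0 ∨ (2 : F) = 0)
    (hno : ∀ m : F, m ^ 2 + tr g * m + 1 ≠ 0) :
    idx g = Fintype.card F * (Fintype.card F - 1) := by
  have hi := idx_mul g
  rw [pre_eq_centralizer g h, card_centralizer_nonsplit ht hno, sq_sub_one] at hi
  exact Nat.eq_of_mul_eq_mul_right (show 0 < Fintype.card F + 1 from Nat.succ_pos _) (hi.trans (by ring))

theorem idx_zero_split {g : SL(2, F)} (h2 : (2 : F) ≠ 0) (h0 : tr g = 0) (h : Fintype.card F % 4 = 1) :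
    2 * idx g = Fintype.card F * (Fintype.card F + 1) := by
  obtain ⟨l, hl⟩ : IsSquare (-1 : F) := FiniteField.isSquare_neg_one_iff.2 (by omega)
  have ht : tr g ^ 2 ≠ 4 := fun e => h2 (mul_self_eq_zero.1 (by rw [h0] at e; linear_combination -e))
  have hi := idx_mul g
  rw [pre_eq_normalizer g h0 h2, card_normalizer ht,
    card_centralizer_split ht (l := l) (by rw [h0]; linear_combination -hl), sq_sub_one] at hi
  have hpos : 0 < Fintype.card F - 1 := by have := Fintype.one_lt_card (α := F); omega
  refine Nat.eq_of_mul_eq_mul_right hpos ?_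
  linear_combination hi

theorem idx_zero_nonsplit {g : SL(2, F)} (h2 : (2 : F) ≠ 0) (h0 : tr g = 0)
    (h : Fintype.card F % 4 = 3) : 2 * idx g = Fintype.card F * (Fintype.card F - 1) := by
  have ht : tr g ^ 2 ≠ 4 := fun e => h2 (mul_self_eq_zero.1 (by rw [h0] at e; linear_combination -e))
  have hi := idx_mul g
  rw [pre_eq_normalizer g h0 h2, card_normalizer ht,
    card_centralizer_nonsplit ht (fun m e => by
      have : IsSquare (-1 : F) := ⟨m, by rw [h0] at e; linear_combination -e⟩
      exact FiniteField.isSquare_neg_one_iff.1 this h), sq_sub_one] at hi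
  refine Nat.eq_of_mul_eq_mul_right (Nat.succ_pos (Fintype.card F)) ?_
  rw [Nat.succ_eq_add_one]
  linear_combination hi

theorem tr_companion (t : F) : tr (companion t) = t := by
  simp [tr, companion, Matrix.trace_fin_two]

theorem nonScalar_companion (t : F) :
    SL2Trace.NonScalar (companion t : Matrix (Fin 2) (Fin 2) F) := by
  simp [SL2Trace.NonScalar, companion]

theorem exists_split_ne_zero (h : 7 ≤ Fintype.card F) :
    ∃ t : F, t ^ 2 ≠ 4 ∧ t ≠ 0 ∧ ∃ l : F, l ^ 2 + t * l + 1 = 0 := by
  classical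
  obtain ⟨a, ha⟩ : ∃ a : F, a ^ 5 - a ≠ 0 := by
    by_contra hc
    push Not at hc
    have hne : (Polynomial.X ^ 5 - Polynomial.X : Polynomial F) ≠ 0 :=
      FiniteField.X_pow_card_sub_X_ne_zero F (by norm_num)
    have := Polynomial.card_le_degree_of_subset_roots (p := (Polynomial.X ^ 5 - Polynomial.X : Polynomial F))
      (Z := Finset.univ) (fun z _ => by
        rw [Polynomial.mem_roots hne]
        simp [hc z])
    rw [Finset.card_univ, FiniteField.X_pow_card_sub_X_natDegree_eq F (by norm_num : 1 < 5)] at this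
    omega
  have ha0 : a ≠ 0 := fun e => ha (by rw [e]; ring)
  refine ⟨a + a⁻¹, ?_, ?_, -a, by field_simp; ring⟩
  · intro e
    apply ha
    field_simp at e
    have : (a ^ 2 - 1) ^ 2 = 0 := by linear_combination e
    have h1 : a ^ 2 - 1 = 0 := (pow_eq_zero_iff two_ne_zero).1 this
    linear_combination (a * (a ^ 2 + 1)) * h1
  · intro e
    apply ha
    field_simp at e
    linear_combination (a * (a ^ 2 - 1)) * e

theorem exists_nonsplit_ne_zero (h : 4 ≤ Fintype.card F) :
    ∃ t : F, t ≠ 0 ∧ ∀ m : F, m ^ 2 + t * m + 1 ≠ 0 := by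
  classical
  by_contra hc
  push Not at hc
  choose m hm using fun t : {t : F // t ≠ 0} => hc t.1 t.2
  have hne : ∀ t, m t ≠ 0 := fun t e => by
    have := hm t
    rw [e] at this
    simp at this
  let f : {t : F // t ≠ 0} → Fˣ := fun t => Units.mk0 (m t) (hne t)
  have hinj : Function.Injective f := fun t t' e => by
    have e' : m t = m t' := congrArg Units.val e
    have h1 := hm t
    have h2 := hm t'
    rw [e'] at h1
    exact Subtype.ext (mul_right_cancel₀ (hne t') (by linear_combination h1 - h2))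
  have hbij : Function.Bijective f := (Fintype.bijective_iff_injective_and_card f).2
    ⟨hinj, by rw [Fintype.card_units, Fintype.card_subtype_compl, Fintype.card_subtype_eq]⟩
  obtain ⟨a, ha⟩ : ∃ a : F, a ∉ ({0, 1, -1} : Finset F) := by
    by_contra hcon
    push Not at hcon
    have := (Finset.card_le_card (fun a _ => hcon a : (Finset.univ : Finset F) ⊆ _)).trans
      Finset.card_le_three
    rw [Finset.card_univ] at this
    omega
  simp at ha
  obtain ⟨ha0, ha1, ha2⟩ := ha
  obtain ⟨t1, h1⟩ := hbij.2 (Units.mk0 a ha0)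
  obtain ⟨t2, h2⟩ := hbij.2 (Units.mk0 a⁻¹ (inv_ne_zero ha0))
  have e1 : m t1 = a := congrArg Units.val h1
  have e2 : m t2 = a⁻¹ := congrArg Units.val h2
  have f1 := hm t1
  have f2 := hm t2
  rw [e1] at f1
  rw [e2] at f2
  field_simp at f2
  have et : t1 = t2 := Subtype.ext (mul_right_cancel₀ ha0 (by linear_combination f1 - f2))
  subst et
  rw [e1] at e2
  field_simp at e2
  rcases sq_eq_one_iff.1 e2 with e | e
  · exact ha1 e
  · exact ha2 e

end CfsgLib.SL2Classes
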