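import Cfsg.Agent.SL2Tori.Basic
import Cfsg.Agent.Linear.Basic

/-!
# Indices of centralisers in `PSL(2, q)`

For a lift `g` the preimage of the centraliser of its image is `{x : x g x⁻¹ = ± g}`; it is
compared with the centraliser and the normaliser of a torus.
-/

set_option autoImplicit false
set_option linter.unusedSectionVars false

namespace CfsgLib.SL2Classes

open Matrix CfsgLib.SL2Trace
open CfsgLib.SL2Tori (tr mem_centralizer_iff det_combination coeff_unique)
open scoped MatrixGroups

variable {F : Type*} [Field F] [Fintype F]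

/-- The index of the centraliser of the image of `g`. -/
noncomputable abbrev idx (g : SL(2, F)) : ℕ :=
  (Subgroup.centralizer ({proj g} : Set (Matrix.ProjectiveSpecialLinearGroup (Fin 2) F))).index

/-- The elements sending `g` to `± g`. -/
noncomputable abbrev pre (g : SL(2, F)) : Subgroup SL(2, F) :=
  (Subgroup.centralizer ({proj g} : Set (Matrix.ProjectiveSpecialLinearGroup (Fin 2) F))).comap
    (QuotientGroup.mk' _)

theorem idx_mul (g : SL(2, F)) :
    idx g * Nat.card (pre g) = Fintype.card F * (Fintype.card F ^ 2 - 1) := by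
  rw [← CfsgLib.Linear.card_SL_two, ← Subgroup.card_mul_index (pre g), mul_comm]
  congr 1
  exact (Subgroup.index_comap_of_surjective _ (QuotientGroup.mk'_surjective _)).symm

theorem mem_pre_iff (g x : SL(2, F)) : x ∈ pre g ↔ x * g * x⁻¹ = g ∨ x * g * x⁻¹ = -g := by
  rw [pre, Subgroup.mem_comap, Subgroup.mem_centralizer_singleton_iff]
  show proj x * proj g = proj g * proj x ↔ _
  rw [← mul_inv_eq_iff_eq_mul]
  constructor
  · intro h
    have h' : proj (x * g * x⁻¹ * g⁻¹) = 1 := by
      show QuotientGroup.mk' _ (x * g * x⁻¹ * g⁻¹) = 1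
      simp only [map_mul, map_inv]
      exact (congrArg (· * (proj g)⁻¹) h).trans (mul_inv_cancel _)
    rcases (proj_eq_one_iff _).1 h' with e | e
    · exact Or.inl (mul_inv_eq_one.1 e)
    · exact Or.inr (by rw [mul_inv_eq_iff_eq_mul.1 e]; simp)
  · rintro (e | e)
    · exact congrArg proj e
    · exact (congrArg proj e).trans (proj_neg g)

theorem tr_conj (g x : SL(2, F)) : tr (x * g * x⁻¹) = tr g := by
  rw [tr, Matrix.SpecialLinearGroup.coe_mul, Matrix.SpecialLinearGroup.coe_mul, Matrix.trace_mul_cycle,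
    ← Matrix.SpecialLinearGroup.coe_mul, inv_mul_cancel, Matrix.SpecialLinearGroup.coe_one, one_mul]

theorem pre_eq_centralizer (g : SL(2, F)) (h : tr g ≠ 0 ∨ (2 : F) = 0) :
    pre g = Subgroup.centralizer ({g} : Set SL(2, F)) := by
  ext x
  rw [mem_pre_iff, Subgroup.mem_centralizer_singleton_iff, ← mul_inv_eq_iff_eq_mul, or_iff_left_iff_imp]
  intro e
  rcases em ((2 : F) = 0) with h2 | h2
  · haveI : CharP F 2 := CharTwo.of_one_ne_zero_of_two_eq_zero one_ne_zero h2
    rw [e]
    apply Subtype.ext
    ext i j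
    simp [CharTwo.neg_eq]
  · exfalso
    have := tr_conj g x
    rw [e] at this
    have h' : (2 : F) * tr g = 0 := by
      simp [tr] at this
      show (2 : F) * Matrix.trace (g : Matrix (Fin 2) (Fin 2) F) = 0
      linear_combination -this
    exact h.elim (fun h => h ((mul_eq_zero.1 h').resolve_left h2)) h2

theorem pre_eq_normalizer (g : SL(2, F)) (h : tr g = 0) (h2 : (2 : F) ≠ 0) :
    pre g = Subgroup.normalizer ((Subgroup.centralizer ({g} : Set SL(2, F))) : Set SL(2, F)) := by
  have ht : tr g ^ 2 ≠ 4 := by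
    rw [h]
    intro e
    have : (2 : F) * 2 = 0 := by linear_combination -e
    exact h2 (mul_self_eq_zero.1 this)
  have hinv : g⁻¹ = -g := Subtype.ext (by
    rw [CfsgLib.SL2Tori.coe_inv_eq, h]
    simp)
  ext x
  rw [mem_pre_iff, CfsgLib.SL2Tori.mem_normalizer_iff ht, hinv]

/-- The centraliser of a non-scalar element with `tr = 2 ε`. -/
theorem card_centralizer_unipotent [DecidableEq F] {g : SL(2, F)}
    (hg : SL2Trace.NonScalar (g : Matrix (Fin 2) (Fin 2) F)) (ε : F) (hε : ε ^ 2 = 1)
    (ht : tr g = 2 * ε) :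
    Nat.card (Subgroup.centralizer ({g} : Set SL(2, F))) =
      Fintype.card F * (Finset.univ.filter fun z : F => z ^ 2 = 1).card := by
  rw [← Fintype.card_subtype, ← Fintype.card_prod, ← Nat.card_eq_fintype_card]
  have hd : ∀ x y : F, x ^ 2 + tr g * x * y + y ^ 2 = (x + ε * y) ^ 2 := fun x y => by
    rw [ht]; linear_combination -(y ^ 2) * hε
  refine (Nat.card_congr (Equiv.ofBijective
    (fun p : F × {z : F // z ^ 2 = 1} =>
      (⟨⟨(p.2.1 - ε * p.1) • 1 + p.1 • g.1, by rw [det_combination, hd, sub_add_cancel]; exact p.2.2⟩,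
        (mem_centralizer_iff hg _).2 ⟨_, _, rfl⟩⟩ : Subgroup.centralizer ({g} : Set SL(2, F))))
    ⟨?_, ?_⟩)).symm
  · intro p p' h
    obtain ⟨e1, e2⟩ := coeff_unique hg (congrArg (fun M => M.1.1) h)
    exact Prod.ext e2 (Subtype.ext (by rw [e2] at e1; exact sub_left_injective e1))
  · intro M
    obtain ⟨x, y, h⟩ := (mem_centralizer_iff hg M.1).1 M.2
    have hd' : (x + ε * y) ^ 2 = 1 := by
      rw [← hd, ← det_combination, ← h]; exact M.1.2
    refine ⟨(y, ⟨x + ε * y, hd'⟩), Subtype.ext (Subtype.ext ?_)⟩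
    show (x + ε * y - ε * y) • (1 : Matrix (Fin 2) (Fin 2) F) + y • g.1 = M.1.1
    rw [add_sub_cancel_right, h]

theorem card_sq_roots_odd [DecidableEq F] (h2 : (2 : F) ≠ 0) :
    (Finset.univ.filter fun z : F => z ^ 2 = 1).card = 2 := by
  have : (Finset.univ.filter fun z : F => z ^ 2 = 1) = {1, -1} := by
    ext z; simp [sq_eq_one_iff]
  rw [this, Finset.card_pair]
  intro e
  exact h2 (by linear_combination e)

theorem card_sq_roots_even [DecidableEq F] (h2 : (2 : F) = 0) :
    (Finset.univ.filter fun z : F => z ^ 2 = 1).card = 1 := by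
  have : (Finset.univ.filter fun z : F => z ^ 2 = 1) = {1} := by
    ext z
    simp only [Finset.mem_filter, Finset.mem_univ, true_and, Finset.mem_singleton, sq_eq_one_iff]
    exact ⟨fun h => h.elim id fun h => by linear_combination h - h2, Or.inl⟩
  rw [this, Finset.card_singleton]

end CfsgLib.SL2Classes
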